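import Groth.Agent.Lib.PerfLCI4.Ring
import Groth.Agent.Lib.CI2.RImm
import Groth.Agent.Lib.RegKR4.Basic
import Groth.Agent.Lib.Cyc26.KoszulH1
import Groth.Agent.Lib.CI2.Conormal
import Groth.Agent.S5803
import Groth.Prelude.Def_RegImm
import Mathlib

/-!
# Regular immersions of the four kinds over locally Noetherian schemes
-/

set_option autoImplicit false
set_option linter.style.haveILetI false
universe u

open AlgebraicGeometry MvPolynomial
open Groth.Agent.CI2 (Ex)

namespace Groth.Agent.PerfLCI4

theorem isQuasiRegular_localization {R L : Type u} [CommRing R] [CommRing L] [Algebra R L] (M : Submonoid R)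
    [IsLocalization M L] {c : ℕ} (f : Fin c → R) (hf : CAlgX.IsQuasiRegular f) :
    CAlgX.IsQuasiRegular fun i => algebraMap R L (f i) := by
  classical
  intro n P hP hev d
  let a := algebraMap R L
  obtain ⟨⟨s, hs⟩, hint⟩ := IsLocalization.exist_integer_multiples M P.support fun d => P.coeff d
  choose A hA using hint
  let P₀ : MvPolynomial (Fin c) R := ∑ d : P.support, monomial d.1 (A d.1 d.2)
  have hP₀ : P₀.IsHomogeneous n := IsHomogeneous.sum _ _ _ fun d _ => isHomogeneous_monomial _ (by
    rw [Finsupp.degree_eq_weight_one]; exact hP (mem_support_iff.1 d.2))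
  have hmap : MvPolynomial.map a P₀ = s • P := by
    conv_rhs => rw [P.as_sum]
    rw [← Finset.sum_coe_sort P.support fun d => monomial d (P.coeff d), map_sum, Finset.smul_sum]
    refine Finset.sum_congr rfl fun d _ => ?_
    rw [map_monomial, hA d.1 d.2, smul_monomial]
  have hspan : Ideal.span (Set.range fun i => a (f i)) = (Ideal.span (Set.range f)).map a := by
    rw [Ideal.map_span, ← Set.range_comp]; rfl
  have hev' : a (eval f P₀) ∈ (Ideal.span (Set.range f) ^ (n + 1)).map a := by
    rw [show a (eval f P₀) = eval (fun i => a (f i)) (MvPolynomial.map a P₀) by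
      rw [eval_map]; exact eval₂_comp_left a (RingHom.id R) f P₀, hmap, Algebra.smul_def, map_mul,
      Ideal.map_pow, ← hspan]
    exact Ideal.mul_mem_left _ _ hev
  obtain ⟨w, hw, hwm⟩ := (IsLocalization.algebraMap_mem_map_algebraMap_iff M L _ _).1 hev'
  have h2 := hf n (C w * P₀) (hP₀.C_mul _) (by rwa [map_mul, eval_C]) d
  rw [coeff_C_mul] at h2
  have h3 := Ideal.mem_map_of_mem a h2
  rw [← hspan, map_mul, ← coeff_map, hmap, coeff_smul, Algebra.smul_def] at h3
  exact (Ideal.unit_mul_mem_iff_mem _ (IsLocalization.map_units L ⟨s, hs⟩)).1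
    ((Ideal.unit_mul_mem_iff_mem _ (IsLocalization.map_units L ⟨w, hw⟩)).1 h3)

theorem seq_quasi {k : RegImm.Kind} {R : Type u} [CommRing R] {rs : List R} (h : k.Seq R rs) :
    CAlgX.IsQuasiRegular rs.get := by
  cases k with
  | regular => exact QReg.isQuasiRegular_of_isH1Regular (Cyc26.isH1Regular_of_isKoszulRegularSeq rs
      ((CI2.isKoszulRegularSeq_iff_ex rs).mpr (CI2.ex_of_isWeaklyRegular rs R h.toIsWeaklyRegular)))
  | koszul => exact QReg.isQuasiRegular_of_isH1Regular (Cyc26.isH1Regular_of_isKoszulRegularSeq rs h)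
  | h1 => exact QReg.isQuasiRegular_of_isH1Regular h
  | quasi => exact h

theorem seq_of_isRegular (k : RegImm.Kind) {R : Type u} [CommRing R] {rs : List R}
    (h : RingTheory.Sequence.IsRegular R rs) : k.Seq R rs := by
  have hk : LCI.IsKoszulRegularSeq R rs :=
    (CI2.isKoszulRegularSeq_iff_ex rs).mpr (CI2.ex_of_isWeaklyRegular rs R h.toIsWeaklyRegular)
  cases k with
  | regular => exact h
  | koszul => exact hk
  | h1 => exact Cyc26.isH1Regular_of_isKoszulRegularSeq rs hk
  | quasi => exact QReg.isQuasiRegular_of_isH1Regular (Cyc26.isH1Regular_of_isKoszulRegularSeq rs hk)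

theorem ex_atPrime_of_seq {k : RegImm.Kind} {R : Type u} [CommRing R] [IsNoetherianRing R] {rs : List R}
    (h : k.Seq R rs) (q : Ideal R) [q.IsPrime] (hq : Ideal.ofList rs ≤ q) :
    Ex (Localization.AtPrime q) (Localization.AtPrime q) (rs.map (algebraMap R (Localization.AtPrime q))) := by
  let a := algebraMap R (Localization.AtPrime q)
  have h1 := S5803.result (Localization.AtPrime q) _ _ (fun i => by
      rw [IsLocalRing.ringJacobson_eq_maximalIdeal, ← Localization.AtPrime.map_eq_maximalIdeal]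
      exact Ideal.mem_map_of_mem _ (hq (Ideal.subset_span (rs.get_mem i))))
    (isQuasiRegular_localization q.primeCompl rs.get (seq_quasi h))
  rw [show (List.ofFn fun i => a (rs.get i)) = rs.map a by
    rw [show (fun i => a (rs.get i)) = a ∘ rs.get from rfl, ← List.map_ofFn, List.ofFn_get]] at h1
  exact CI2.ex_of_isWeaklyRegular _ _ h1

theorem exists_away_regular {R : Type u} [CommRing R] [IsNoetherianRing R] {I : Ideal R} (q : PrimeSpectrum R)
    (hq : I ≤ q.asIdeal) {l : List (Localization.AtPrime q.asIdeal)}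
    (hl : Ex (Localization.AtPrime q.asIdeal) (Localization.AtPrime q.asIdeal) l)
    (hspan : I.map (algebraMap R (Localization.AtPrime q.asIdeal)) = Ideal.ofList l) :
    ∃ g ∉ q.asIdeal, ∃ rs : List (Localization.Away g), RingTheory.Sequence.IsRegular (Localization.Away g) rs ∧
      I.map (algebraMap R (Localization.Away g)) = Ideal.ofList rs := by
  let L := Localization.AtPrime q.asIdeal
  obtain ⟨k, hk, g₁, hg₁, hk₁⟩ := CI2.exists_lift_gens (IsNoetherian.noetherian I) q
  have hu : IsUnit (algebraMap R L g₁) := IsLocalization.map_units L (⟨g₁, hg₁⟩ : q.asIdeal.primeCompl)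
  have hkL := congrArg (Ideal.map (IsLocalization.Away.lift (S := Localization.Away g₁) g₁ hu)) hk₁
  rw [Ideal.map_map, Ideal.map_ofList, List.map_map, ← RingHom.coe_comp, IsLocalization.Away.lift_comp] at hkL
  have heq : Ideal.ofList (k.map (algebraMap R L)) = Ideal.ofList l := hkL.symm.trans hspan
  have hle : I.map (algebraMap R L) ≤ IsLocalRing.maximalIdeal L := by
    rw [← Localization.AtPrime.map_eq_maximalIdeal]; exact Ideal.map_mono hq
  have hne : Ideal.ofList l ≠ ⊤ := fun he => by
    rw [hspan, he] at hle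
    exact (IsLocalRing.maximalIdeal.isMaximal L).ne_top (top_le_iff.1 hle)
  have hlen : (k.map (algebraMap R L)).length = l.length :=
    le_antisymm (by
      rw [List.length_map, hk]
      exact Nat.sInf_le ⟨l, rfl, hspan.symm⟩) (CI2.length_le_of_ofList_eq hl hne heq)
  have hex := CI2.ex_of_ofList_eq hl heq hlen
  have hw := CI2.isWeaklyRegular_reverse_of_exact (k.map (algebraMap R L))
    (fun x hx => hle (hspan ▸ heq ▸ Ideal.subset_span hx)) (hex 0)
  rw [← List.map_reverse] at hw
  obtain ⟨g₂, hg₂, hw₂⟩ := RegKR4.exists_isWeaklyRegular_away q.asIdeal k.reverse hw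
  let g := g₁ * g₂
  let G := Localization.Away g
  have hg : g ∉ q.asIdeal := fun hm => (q.2.mem_or_mem hm).elim hg₁ hg₂
  have hu₁ : IsUnit (algebraMap R G g₁) :=
    isUnit_of_dvd_unit (map_dvd _ (Dvd.intro g₂ rfl)) (IsLocalization.Away.algebraMap_isUnit g)
  have hrev : I.map (algebraMap R G) = Ideal.ofList (k.reverse.map (algebraMap R G)) := by
    rw [CI2.map_away_eq_of_isUnit hu₁ hk₁, List.map_reverse]
    exact congrArg Ideal.span (Set.ext fun x => List.mem_reverse.symm)
  refine ⟨g, hg, _, ⟨hw₂ g (Dvd.intro_left g₁ rfl), ?_⟩, hrev⟩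
  rw [← hrev, smul_eq_mul, Ideal.mul_top]
  intro htop
  have hu' : IsUnit (algebraMap R L g) := IsLocalization.map_units L (⟨g, hg⟩ : q.asIdeal.primeCompl)
  have h1 := congrArg (Ideal.map (IsLocalization.Away.lift (S := G) g hu')) htop
  rw [Ideal.map_top, Ideal.map_map, IsLocalization.Away.lift_comp] at h1
  exact (IsLocalRing.maximalIdeal.isMaximal L).ne_top (top_le_iff.1 (h1 ▸ hle))

section
open CategoryTheory
variable {Z X : Scheme.{u}} (i : Z ⟶ X)

theorem isRegularImmersionAt_of_ex (k : RegImm.Kind) [IsLocallyNoetherian X] {U : X.Opens} (hU : IsAffineOpen U)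
    [IsClosedImmersion (i ∣_ U)] {z : Z} (hz : i z ∈ U) (q : Ideal Γ(X, U)) [q.IsPrime]
    (hq : (hU.primeIdealOf ⟨i z, hz⟩).asIdeal = q) {l : List (Localization.AtPrime q)}
    (hl : Ex (Localization.AtPrime q) (Localization.AtPrime q) l)
    (hspan : (RingHom.ker (i.app U).hom).map (algebraMap Γ(X, U) (Localization.AtPrime q)) = Ideal.ofList l) :
    RegImm.IsRegularImmersionAt k i z := by
  subst hq
  haveI : IsNoetherianRing Γ(X, U) := IsLocallyNoetherian.component_noetherian ⟨U, hU⟩
  obtain ⟨g, hg, rs, hrs, hI⟩ := exists_away_regular _ (CI2.ker_le_primeIdealOf i hU hz) hl hspan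
  haveI := hU.isLocalization_basicOpen g
  let e : Localization.Away g ≃ₐ[Γ(X, U)] Γ(X, X.basicOpen g) :=
    IsLocalization.algEquiv (Submonoid.powers g) _ _
  refine ⟨⟨X.basicOpen g, hU.basicOpen g⟩, ?_, CI2.isClosedImmersion_restrict_of_le i (X.basicOpen_le g),
    rs.map e.toRingEquiv, ?_, ?_⟩
  · have h1 := hU.fromSpec_preimage_basicOpen g
    have h2 : hU.primeIdealOf ⟨i z, hz⟩ ∈ hU.fromSpec ⁻¹ᵁ X.basicOpen g := by rw [h1]; exact hg
    have h3 : hU.fromSpec (hU.primeIdealOf ⟨i z, hz⟩) ∈ X.basicOpen g := h2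
    rwa [hU.fromSpec_primeIdealOf] at h3
  · exact seq_of_isRegular k ((e.toRingEquiv.toAddEquiv.isRegular_congr
      (List.forall₂_map_right_iff.mpr (List.forall₂_same.mpr fun r _ x => map_mul e r x))).1 hrs)
  · refine (CI2.ker_app_basicOpen i hU g rfl (X.basicOpen_le g)).trans ?_
    rw [show rs.map e.toRingEquiv = rs.map e.toRingEquiv.toRingHom from rfl, ← Ideal.map_ofList, ← hI, Ideal.map_map]
    exact congrArg (fun φ => Ideal.map φ _) (RingHom.ext fun a => (e.commutes a).symm)

/-- Over a locally Noetherian scheme every kind of regular immersion is a Koszul regular immersion. -/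
theorem koszul_of_kind [IsLocallyNoetherian X] {k : RegImm.Kind} (h : RegImm.IsRegularImmersion k i) :
    RegImm.IsRegularImmersion .koszul i := by
  haveI := h.1
  refine CI2.isRegularImmersion_of_forall_isKR i fun z => ?_
  obtain ⟨⟨U, hU⟩, hz, hcl, rs, hrs, hker⟩ := h.2 z
  haveI : IsNoetherianRing Γ(X, U) := IsLocallyNoetherian.component_noetherian ⟨U, hU⟩
  refine ⟨U, hU, hz, hcl, isKR_of_forall_atPrime _ fun q hq => ⟨_, ex_atPrime_of_seq hrs q.asIdeal
    (hker ▸ hq), ?_⟩⟩
  rw [hker, Ideal.map_ofList]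

end

end Groth.Agent.PerfLCI4
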