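import Groth.Agent.Lib.CI2.KRDesc
import Groth.Agent.Lib.CI2.FlatLCI
import Groth.Agent.Lib.CI2.KoszulInv
import Groth.Agent.Lib.CI2.Ops
import Groth.Agent.Lib.CI2.KRPeel
import Mathlib

/-!
# Koszul regular sequences spread out over Noetherian rings
-/

set_option autoImplicit false
set_option linter.style.haveILetI false
universe u

open Groth.Agent.CanElt (KObj kd kmap)
open Groth.Agent.CI2

namespace Groth.Agent.PerfLCI4

variable {R : Type u} [CommRing R]

/-- The localization map, as a semilinear map. -/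
noncomputable def locMap (L : Type u) [CommRing L] [Algebra R L] : R →ₛₗ[algebraMap R L] L :=
  { toFun := algebraMap R L
    map_add' := map_add _
    map_smul' := map_mul _ }

theorem locMap_ker (S : Submonoid R) (L : Type u) [CommRing L] [Algebra R L] [IsLocalization S L] :
    ∀ r : R, locMap L r = 0 → ∃ s ∈ S, s • r = (0 : R) := fun r hr => by
  obtain ⟨⟨s, hs⟩, hsr⟩ := (IsLocalization.map_eq_zero_iff S L r).1 hr
  exact ⟨s, hs, hsr⟩

theorem locMap_surj (S : Submonoid R) (L : Type u) [CommRing L] [Algebra R L] [IsLocalization S L] :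
    ∀ y : L, ∃ s ∈ S, ∃ r : R, locMap L r = algebraMap R L s • y := fun y => by
  obtain ⟨⟨r, ⟨s, hs⟩⟩, h⟩ := IsLocalization.surj S y
  exact ⟨s, hs, r, by rw [smul_eq_mul, mul_comm]; exact h.symm⟩

theorem ex_of_killed (S : Submonoid R) (L : Type u) [CommRing L] [Algebra R L] [IsLocalization S L] {k : List R}
    (h : ∀ n z, kd R R k n z = 0 → ∃ c ∈ S, ∃ w, kd R R k (n + 1) w = c • z) : Ex L L (k.map (algebraMap R L)) := by
  intro n z' hz'
  obtain ⟨s, hs, z, hz⟩ := exists_kmap_eq S (locMap L) (locMap_surj S L) k (n + 1) z'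
  obtain ⟨t, ht, htz⟩ := exists_mul_of_kmap_eq_zero S (locMap L) (locMap_ker S L) k n (kd R R k n z)
    (by rw [CanElt.kmap_kd, hz, map_smul, hz', smul_zero])
  obtain ⟨c, hc, w, hw⟩ := h n (t • z) (by rw [map_smul, htz])
  have h1 : kd L L (k.map (algebraMap R L)) (n + 1) (kmap (locMap L) k (n + 2) w) = algebraMap R L (c * t * s) • z' := by
    rw [← CanElt.kmap_kd, hw, LinearMap.map_smulₛₗ, LinearMap.map_smulₛₗ, hz, smul_smul, smul_smul, map_mul, map_mul,
      mul_assoc]
  obtain ⟨v, hv⟩ := (IsLocalization.map_units L (⟨c * t * s, mul_mem (mul_mem hc ht) hs⟩ : S)).exists_left_inv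
  exact ⟨v • kmap (locMap L) k (n + 2) w, by rw [map_smul, h1, smul_smul, hv, one_smul]⟩

theorem exists_away_ex [IsNoetherianRing R] (q : Ideal R) [q.IsPrime] {k : List R}
    (h : Ex (Localization.AtPrime q) (Localization.AtPrime q) (k.map (algebraMap R (Localization.AtPrime q)))) :
    ∃ g ∉ q, Ex (Localization.Away g) (Localization.Away g) (k.map (algebraMap R (Localization.Away g))) := by
  classical
  let L := Localization.AtPrime q
  have step : ∀ n, ∃ c ∉ q, ∀ z, kd R R k n z = 0 → ∃ w, kd R R k (n + 1) w = c • z := by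
    intro n
    haveI := Goren15.finite_KObj R k (n + 1)
    obtain ⟨T, hT⟩ := IsNoetherian.noetherian (LinearMap.ker (kd R R k n))
    have hz : ∀ z : T, ∃ c ∈ q.primeCompl, ∃ w, kd R R k (n + 1) w = c • (z : KObj R R k (n + 1)) := fun z => by
      have hz0 : kd R R k n z = 0 := by
        rw [← LinearMap.mem_ker, ← hT]; exact Submodule.subset_span z.2
      obtain ⟨w', hw'⟩ := h n (kmap (locMap L) k (n + 1) z) (by rw [← CanElt.kmap_kd, hz0, map_zero])
      obtain ⟨s, hs, w, hw⟩ := exists_kmap_eq q.primeCompl (locMap L) (locMap_surj q.primeCompl L) k (n + 2) w'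
      obtain ⟨t, ht, htz⟩ := exists_mul_of_kmap_eq_zero q.primeCompl (locMap L) (locMap_ker q.primeCompl L) k (n + 1)
        (kd R R k (n + 1) w - s • (z : KObj R R k (n + 1)))
        (by rw [map_sub, CanElt.kmap_kd, hw, map_smul, hw', LinearMap.map_smulₛₗ, sub_self])
      rw [smul_sub, sub_eq_zero] at htz
      exact ⟨t * s, mul_mem ht hs, t • w, by rw [map_smul, htz, smul_smul]⟩
    choose c hc w hw using hz
    refine ⟨∏ z : T, c z, (prod_mem fun z _ => hc z : (∏ z : T, c z) ∈ q.primeCompl), fun z hz => ?_⟩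
    replace hz : z ∈ Submodule.span R (T : Set (KObj R R k (n + 1))) := by rw [hT]; exact hz
    induction hz using Submodule.span_induction with
    | mem x hx =>
      exact ⟨(∏ z ∈ Finset.univ.erase (⟨x, hx⟩ : T), c z) • w ⟨x, hx⟩, by
        rw [map_smul, hw, smul_smul, Finset.prod_erase_mul _ _ (Finset.mem_univ _)]⟩
    | zero => exact ⟨0, by simp⟩
    | add a b _ _ ha hb =>
      obtain ⟨w₁, h₁⟩ := ha
      obtain ⟨w₂, h₂⟩ := hb
      exact ⟨w₁ + w₂, by rw [map_add, h₁, h₂, smul_add]⟩
    | smul r a _ ha =>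
      obtain ⟨w₁, h₁⟩ := ha
      exact ⟨r • w₁, by rw [map_smul, h₁, smul_comm]⟩
  choose c hc hcw using step
  let g := ∏ n ∈ Finset.range (k.length + 1), c n
  have hg : g ∈ q.primeCompl := prod_mem fun n _ => hc n
  refine ⟨g, hg, ex_of_killed (Submonoid.powers g) (Localization.Away g) fun n z hz => ⟨g, Submonoid.mem_powers g, ?_⟩⟩
  by_cases hn : n < k.length + 1
  · obtain ⟨w, hw⟩ := hcw n z hz
    exact ⟨(∏ m ∈ (Finset.range (k.length + 1)).erase n, c m) • w, by
      rw [map_smul, hw, smul_smul, Finset.prod_erase_mul _ _ (Finset.mem_range.2 hn)]⟩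
  · haveI := CanElt.subsingleton_KObj R R k (n + 1) (by omega)
    exact ⟨0, Subsingleton.elim _ _⟩

/-- An ideal generated near `q` by a Koszul regular sequence, from the localization at `q`. -/
theorem exists_away_generators [IsNoetherianRing R] {I : Ideal R} (q : PrimeSpectrum R) (hq : I ≤ q.asIdeal)
    {l : List (Localization.AtPrime q.asIdeal)} (hl : Ex (Localization.AtPrime q.asIdeal) (Localization.AtPrime q.asIdeal) l)
    (hspan : I.map (algebraMap R (Localization.AtPrime q.asIdeal)) = Ideal.ofList l) :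
    ∃ g ∉ q.asIdeal, ∃ k : List (Localization.Away g), Ex (Localization.Away g) (Localization.Away g) k ∧
      I.map (algebraMap R (Localization.Away g)) = Ideal.ofList k := by
  let L := Localization.AtPrime q.asIdeal
  obtain ⟨k, hk, g₁, hg₁, hk₁⟩ := exists_lift_gens (IsNoetherian.noetherian I) q
  have hu : IsUnit (algebraMap R L g₁) := IsLocalization.map_units L (⟨g₁, hg₁⟩ : q.asIdeal.primeCompl)
  have hkL := congrArg (Ideal.map (IsLocalization.Away.lift (S := Localization.Away g₁) g₁ hu)) hk₁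
  rw [Ideal.map_map, Ideal.map_ofList, List.map_map, ← RingHom.coe_comp, IsLocalization.Away.lift_comp] at hkL
  have heq : Ideal.ofList (k.map (algebraMap R L)) = Ideal.ofList l := hkL.symm.trans hspan
  have hne : Ideal.ofList l ≠ ⊤ := fun he => by
    have h1 : I.map (algebraMap R L) ≤ IsLocalRing.maximalIdeal L := by
      rw [← Localization.AtPrime.map_eq_maximalIdeal]; exact Ideal.map_mono hq
    rw [hspan, he] at h1
    exact (IsLocalRing.maximalIdeal.isMaximal L).ne_top (top_le_iff.1 h1)
  have hlen : (k.map (algebraMap R L)).length = l.length :=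
    le_antisymm (by
      rw [List.length_map, hk]
      exact Nat.sInf_le ⟨l, rfl, hspan.symm⟩) (length_le_of_ofList_eq hl hne heq)
  obtain ⟨g₂, hg₂, hex⟩ := exists_away_ex q.asIdeal (ex_of_ofList_eq hl heq hlen)
  have hu₁ : IsUnit (algebraMap R (Localization.Away (g₁ * g₂)) g₁) :=
    isUnit_of_dvd_unit (map_dvd _ (Dvd.intro g₂ rfl)) (IsLocalization.Away.algebraMap_isUnit (g₁ * g₂))
  have hu₂ : IsUnit (algebraMap R (Localization.Away (g₁ * g₂)) g₂) :=
    isUnit_of_dvd_unit (map_dvd _ (Dvd.intro_left g₁ rfl)) (IsLocalization.Away.algebraMap_isUnit (g₁ * g₂))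
  refine ⟨g₁ * g₂, fun hm => (q.2.mem_or_mem hm).elim hg₁ hg₂, k.map (algebraMap R _),
    ex_away_of_isUnit hu₂ hex, map_away_eq_of_isUnit hu₁ hk₁⟩

theorem isKR_of_forall_atPrime [IsNoetherianRing R] (I : Ideal R)
    (h : ∀ q : PrimeSpectrum R, I ≤ q.asIdeal → ∃ l : List (Localization.AtPrime q.asIdeal),
      Ex (Localization.AtPrime q.asIdeal) (Localization.AtPrime q.asIdeal) l ∧
        I.map (algebraMap R (Localization.AtPrime q.asIdeal)) = Ideal.ofList l) :
    LCI.IsKoszulRegularIdeal I := by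
  rw [isKR_iff]
  intro q hq
  obtain ⟨l, hl, hspan⟩ := h q hq
  exact exists_away_generators q hq hl hspan

theorem isKR_ofList {l : List R} (h : Ex R R l) : LCI.IsKoszulRegularIdeal (Ideal.ofList l) := by
  rw [isKR_iff]
  exact fun p _ => ⟨1, fun h1 => p.isPrime.ne_top ((Ideal.eq_top_iff_one _).2 h1), _,
    Ex.localization (B := Localization.Away (1 : R)) (Submonoid.powers 1) h, Ideal.map_ofList _ _⟩

/-- Koszul regularity of the localization of a Koszul regular ideal. -/
theorem exists_ex_atPrime {I : Ideal R} (h : LCI.IsKoszulRegularIdeal I) (q : Ideal R) [q.IsPrime] (hq : I ≤ q) :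
    ∃ l : List (Localization.AtPrime q), Ex (Localization.AtPrime q) (Localization.AtPrime q) l ∧
      I.map (algebraMap R (Localization.AtPrime q)) = Ideal.ofList l := by
  obtain ⟨g, hg, l, hl, hspan⟩ := (isKR_iff I).1 h ⟨q, inferInstance⟩ hq
  let L := Localization.AtPrime q
  let G := Localization.Away g
  have hu : IsUnit (algebraMap R L g) := IsLocalization.map_units L (⟨g, hg⟩ : q.primeCompl)
  let ρ : G →+* L := IsLocalization.Away.lift g hu
  have hρ : ρ.comp (algebraMap R G) = algebraMap R L := IsLocalization.Away.lift_comp g hu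
  letI : Algebra G L := ρ.toAlgebra
  haveI : IsScalarTower R G L := IsScalarTower.of_algebraMap_eq' hρ.symm
  haveI : IsLocalization (q.primeCompl.map (algebraMap R G)) L :=
    IsLocalization.isLocalization_of_submonoid_le G L (Submonoid.powers g) q.primeCompl (Submonoid.powers_le.2 hg)
  exact ⟨_, Ex.localization (B := L) (q.primeCompl.map (algebraMap R G)) hl, by
    rw [← Ideal.map_ofList, ← hspan, Ideal.map_map, ← IsScalarTower.algebraMap_eq R G L]⟩

end Groth.Agent.PerfLCI4
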