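import Groth.Agent.Lib.PerfLCI4.Spread
import Groth.Agent.Lib.PCMor4.Perfect
import Groth.Agent.Lib.CI2.KRPres
import Groth.Agent.Lib.CI2.KRLocal
import Groth.Agent.S2200
import Mathlib

/-!
# Perfect maps with lci composite
-/

set_option autoImplicit false
set_option linter.style.haveILetI false
universe u

attribute [local instance] HasDerivedCategory.standard

open TensorProduct MvPolynomial Groth.Agent.CI2

namespace Groth.Agent.PerfLCI4

theorem flat_quotient_map {R L : Type u} [CommRing R] [CommRing L] [Algebra R L] [Module.Flat R L] (I : Ideal R) :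
    (Ideal.quotientMap (I.map (algebraMap R L)) (algebraMap R L) Ideal.le_comap_map).Flat := by
  letI : Algebra (R ⧸ I) (L ⧸ I.map (algebraMap R L)) :=
    (Ideal.quotientMap (I.map (algebraMap R L)) (algebraMap R L) Ideal.le_comap_map).toAlgebra
  haveI : IsScalarTower R (R ⧸ I) (L ⧸ I.map (algebraMap R L)) := IsScalarTower.of_algebraMap_eq fun _ => rfl
  let e₀ : (R ⧸ I) ⊗[R] L ≃ₗ[R] L ⧸ I.map (algebraMap R L) :=
    ((TensorProduct.quotTensorEquivQuotSMul L I).trans (Submodule.quotEquivOfEq _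
      ((I.map (algebraMap R L)).restrictScalars R) (Ideal.smul_top_eq_map I))).trans
      (Submodule.Quotient.restrictScalarsEquiv R (I.map (algebraMap R L)))
  exact Module.Flat.of_linearEquiv (e₀.extendScalarsOfSurjective (S := R ⧸ I) Ideal.Quotient.mk_surjective).symm

theorem isKR_away_sum {A P : Type u} [CommRing A] [CommRing P] [Algebra A P] (h : P) :
    LCI.IsKoszulRegularIdeal (RingHom.ker (CI2.polyAway h)) := by
  obtain ⟨-, hk, -⟩ := CI2.polyAway_spec h
  rw [hk, ← Ideal.ofList_singleton]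
  exact isKR_ofList (CI2.ex_of_isWeaklyRegular _ _ ((RingTheory.Sequence.isWeaklyRegular_cons_iff _ _ _).2
    ⟨isSMulRegular_iff_right_eq_zero_of_smul.2 fun a ha => KoszulFibre4.C_mul_X_sub_one_regular h a ha,
      RingTheory.Sequence.IsWeaklyRegular.nil _ _⟩))

theorem local_key {R Bz C : Type u} [CommRing R] [IsNoetherianRing R] [CommRing Bz] [CommRing C]
    (σ : R →+* Bz) (hσ : Function.Surjective σ) [Algebra Bz C] (hφs : Function.Surjective (algebraMap Bz C))
    {d : ℕ} (hd : DRing.HasTorDimLE Bz d C) (hKR : LCI.IsKoszulRegularIdeal (RingHom.ker ((algebraMap Bz C).comp σ)))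
    (𝔮 : Ideal R) [𝔮.IsPrime] (hle : RingHom.ker ((algebraMap Bz C).comp σ) ≤ 𝔮) :
    (∃ rs : List (Localization.AtPrime 𝔮), Ideal.ofList rs = (RingHom.ker σ).map (algebraMap R (Localization.AtPrime 𝔮)) ∧
      RingTheory.Sequence.IsRegular (Localization.AtPrime 𝔮) rs) ∧
    ∃ rs : List (Localization.AtPrime 𝔮 ⧸ (RingHom.ker σ).map (algebraMap R (Localization.AtPrime 𝔮))),
      Ideal.ofList rs = ((RingHom.ker ((algebraMap Bz C).comp σ)).map (algebraMap R (Localization.AtPrime 𝔮))).map
        (Ideal.Quotient.mk ((RingHom.ker σ).map (algebraMap R (Localization.AtPrime 𝔮)))) ∧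
      RingTheory.Sequence.IsRegular (Localization.AtPrime 𝔮 ⧸ (RingHom.ker σ).map (algebraMap R (Localization.AtPrime 𝔮))) rs := by
  let φ := algebraMap Bz C
  let τ : R →+* C := φ.comp σ
  have hIJ : RingHom.ker σ ≤ RingHom.ker τ := fun r hr => by
    rw [RingHom.mem_ker] at hr ⊢; simp [τ, hr]
  let L := Localization.AtPrime 𝔮
  let IL := (RingHom.ker σ).map (algebraMap R L)
  let JL := (RingHom.ker τ).map (algebraMap R L)
  have hILJ : IL ≤ JL := Ideal.map_mono hIJ
  have hJne : JL ≠ ⊤ := fun he => by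
    have h1 : JL ≤ IsLocalRing.maximalIdeal L := by
      rw [← Localization.AtPrime.map_eq_maximalIdeal]; exact Ideal.map_mono hle
    rw [he] at h1
    exact (IsLocalRing.maximalIdeal.isMaximal L).ne_top (top_le_iff.1 h1)
  let eσ := RingHom.quotientKerEquivOfSurjective hσ
  let ρ : Bz →+* L ⧸ IL :=
    (Ideal.quotientMap IL (algebraMap R L) (Ideal.le_comap_map (I := RingHom.ker σ))).comp eσ.symm.toRingHom
  letI : Algebra Bz (L ⧸ IL) := ρ.toAlgebra
  haveI : Module.Flat Bz (L ⧸ IL) :=
    (RingHom.Flat.of_bijective eσ.symm.bijective).comp (flat_quotient_map (R := R) (L := L) (RingHom.ker σ))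
  have hρ : ∀ r, ρ (σ r) = Ideal.Quotient.mk IL (algebraMap R L r) := fun r => by
    show Ideal.quotientMap IL (algebraMap R L) (Ideal.le_comap_map (I := RingHom.ker σ)) (eσ.symm (σ r)) = _
    rw [show σ r = eσ (Ideal.Quotient.mk _ r) from rfl, eσ.symm_apply_apply]
    rfl
  letI : Algebra (L ⧸ IL) (L ⧸ JL) := (Ideal.Quotient.factor hILJ).toAlgebra
  haveI : IsScalarTower L (L ⧸ IL) (L ⧸ JL) := ⟨fun l x y => by
    obtain ⟨x, rfl⟩ := Ideal.Quotient.mk_surjective x
    obtain ⟨y, rfl⟩ := Ideal.Quotient.mk_surjective y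
    show Ideal.Quotient.mk JL (l * x * y) = Ideal.Quotient.mk JL (l * (x * y))
    rw [mul_assoc]⟩
  have hmap : (RingHom.ker φ).map ρ = JL.map (Ideal.Quotient.mk IL) := by
    rw [show RingHom.ker φ = (RingHom.ker τ).map σ by
      rw [← RingHom.comap_ker, Ideal.map_comap_of_surjective σ hσ], Ideal.map_map, Ideal.map_map]
    exact congrArg (fun f => Ideal.map f _) (RingHom.ext hρ)
  let e₁ : C ≃ₗ[Bz] Bz ⧸ RingHom.ker φ :=
    (RingHom.quotientKerEquivOfSurjective hφs).symm.toAddEquiv.toLinearEquiv fun b c => by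
      obtain ⟨b', rfl⟩ := hφs c
      have he : ∀ z, (RingHom.quotientKerEquivOfSurjective hφs).symm.toAddEquiv (algebraMap Bz C z) =
          Ideal.Quotient.mk (RingHom.ker φ) z := fun z => by
        show (RingHom.quotientKerEquivOfSurjective hφs).symm
          (RingHom.quotientKerEquivOfSurjective hφs (Ideal.Quotient.mk _ z)) = _
        rw [RingEquiv.symm_apply_apply]
      rw [Algebra.smul_def, ← map_mul, he, he]
      rfl
  have h2 : DRing.HasTorDimLE (L ⧸ IL) d (L ⧸ JL) := by
    refine PCMor4.td_equiv ?_ (PCMor4.td_baseChange (B := L ⧸ IL) d _ (PCMor4.td_equiv e₁ hd))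
    let q₁ := (Algebra.TensorProduct.quotIdealMapEquivTensorQuot (L ⧸ IL) (RingHom.ker φ)).symm.toLinearEquiv
    refine q₁.trans ((Submodule.quotEquivOfEq _ (JL.map (Ideal.Quotient.mk IL)) hmap).trans
      ((DoubleQuot.quotQuotEquivQuotOfLE hILJ).toAddEquiv.toLinearEquiv fun r x => ?_))
    obtain ⟨r, rfl⟩ := Ideal.Quotient.mk_surjective r
    obtain ⟨x, rfl⟩ := Ideal.Quotient.mk_surjective x
    obtain ⟨x, rfl⟩ := Ideal.Quotient.mk_surjective x
    rfl
  obtain ⟨l, hl, hspan⟩ := exists_ex_atPrime hKR 𝔮 hle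
  have hne : Ideal.ofList l ≠ ⊤ := hspan ▸ hJne
  have hm : ∀ x ∈ l, x ∈ IsLocalRing.maximalIdeal L := fun x hx =>
    IsLocalRing.le_maximalIdeal hne (Ideal.subset_span hx)
  have hrev : Ideal.ofList l.reverse = JL := (congrArg Ideal.span (Set.ext fun x => List.mem_reverse)).trans hspan.symm
  refine Groth.Agent.S2200.result IL JL hILJ hJne ⟨d, h2⟩ ⟨l.reverse, hrev, ?_⟩
  refine (RingTheory.Sequence.isRegular_iff _ _).2 ⟨CI2.isWeaklyRegular_reverse_of_exact l hm (hl 0), ?_⟩
  rw [hrev, smul_eq_mul, Ideal.mul_top]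
  exact hJne.symm

theorem quot_key {R Bz C : Type u} [CommRing R] [CommRing Bz] [CommRing C]
    (σ : R →+* Bz) (hσ : Function.Surjective σ) (φ : Bz →+* C) (q : Ideal Bz) [q.IsPrime]
    (rs : List (Localization.AtPrime (q.comap σ) ⧸ (RingHom.ker σ).map (algebraMap R (Localization.AtPrime (q.comap σ)))))
    (hrs : Ideal.ofList rs = ((RingHom.ker (φ.comp σ)).map (algebraMap R (Localization.AtPrime (q.comap σ)))).map
        (Ideal.Quotient.mk ((RingHom.ker σ).map (algebraMap R (Localization.AtPrime (q.comap σ))))))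
    (hreg : RingTheory.Sequence.IsRegular
      (Localization.AtPrime (q.comap σ) ⧸ (RingHom.ker σ).map (algebraMap R (Localization.AtPrime (q.comap σ)))) rs) :
    ∃ l : List (Localization.AtPrime q), Ex (Localization.AtPrime q) (Localization.AtPrime q) l ∧
      (RingHom.ker φ).map (algebraMap Bz (Localization.AtPrime q)) = Ideal.ofList l := by
  let 𝔮 : Ideal R := q.comap σ
  let τ : R →+* C := φ.comp σ
  let L := Localization.AtPrime 𝔮
  let IL := (RingHom.ker σ).map (algebraMap R L)
  let Lq := Localization.AtPrime q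
  let π : L →+* Lq := Localization.localRingHom 𝔮 q σ rfl
  have hπk : RingHom.ker π = IL := by
    haveI : IsLocalization (𝔮.primeCompl.map σ) Lq := by
      rw [show 𝔮.primeCompl.map σ = q.primeCompl from Submonoid.ext fun b => Submonoid.mem_map.trans
        ⟨fun ⟨p, hp, hpb⟩ => hpb ▸ hp, fun hb => by obtain ⟨p, rfl⟩ := hσ b; exact ⟨p, hb, rfl⟩⟩]
      infer_instance
    have hmap : 𝔮.primeCompl.map σ = q.primeCompl := Submonoid.ext fun b => Submonoid.mem_map.trans
      ⟨fun ⟨p, hp, hpb⟩ => hpb ▸ hp, fun hb => by obtain ⟨p, rfl⟩ := hσ b; exact ⟨p, hb, rfl⟩⟩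
    exact IsLocalization.ker_map (S := L) Lq σ hmap
  have hπs : Function.Surjective π := by
    intro y
    obtain ⟨b, s, rfl⟩ := IsLocalization.exists_mk'_eq q.primeCompl y
    obtain ⟨r, rfl⟩ := hσ b
    obtain ⟨t, ht⟩ := hσ s.1
    have ht' : t ∈ 𝔮.primeCompl := fun h => s.2 (ht ▸ h : s.1 ∈ q)
    refine ⟨IsLocalization.mk' L r ⟨t, ht'⟩, ?_⟩
    rw [show π (IsLocalization.mk' L r ⟨t, ht'⟩) = _ from Localization.localRingHom_mk' _ _ _ _ r ⟨t, ht'⟩]
    exact congrArg (IsLocalization.mk' Lq (σ r)) (Subtype.ext ht)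
  let e : (L ⧸ IL) ≃+* Lq := (Ideal.quotEquivOfEq hπk.symm).trans (RingHom.quotientKerEquivOfSurjective (f := π) hπs)
  refine ⟨rs.map e, ex_map_equiv e (ex_of_isWeaklyRegular rs _ hreg.toIsWeaklyRegular), ?_⟩
  rw [show rs.map e = rs.map e.toRingHom from rfl, ← Ideal.map_ofList, hrs, Ideal.map_map, Ideal.map_map,
    show RingHom.ker φ = (RingHom.ker τ).map σ by
      rw [← RingHom.comap_ker, Ideal.map_comap_of_surjective σ hσ], Ideal.map_map]
  refine congrArg (fun f => Ideal.map f _) (RingHom.ext fun r => ?_)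
  show algebraMap Bz Lq (σ r) = π (algebraMap R L r)
  exact (Localization.localRingHom_to_map _ _ _ _ r).symm

variable {A B C : Type u} [CommRing A] [CommRing B] [CommRing C] [IsNoetherianRing A]
  [Algebra A B] [Algebra.FiniteType A B] [Algebra B C] [Algebra A C] [IsScalarTower A B C]

theorem perfect_over_lci (hf : PCMor4.PFH (algebraMap B C)) (hAC : LCI.IsLCI A C) :
    LCI.IsLCI B C ∧ ∀ (Q : Ideal C) [Q.IsPrime],
      ∃ g ∉ Q.comap (algebraMap B C), LCI.IsLCI A (Localization.Away g) := by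
  obtain ⟨m, φ, hφs, hφC, hφpc⟩ := hf.1
  obtain ⟨n, α, hα⟩ := Algebra.FiniteType.iff_quotient_mvPolynomial''.1 ‹Algebra.FiniteType A B›
  let P := MvPolynomial (Fin n) A
  let R := MvPolynomial (Fin m) P
  let Bz := MvPolynomial (Fin m) B
  let σ : R →+* Bz := MvPolynomial.map α.toRingHom
  have hσ : Function.Surjective σ := MvPolynomial.map_surjective _ hα
  have hσk : RingHom.ker σ = (RingHom.ker α.toRingHom).map MvPolynomial.C := MvPolynomial.ker_map _
  let τ : R →+* C := φ.comp σ
  have hτ : Function.Surjective τ := hφs.comp hσ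
  have hIJ : RingHom.ker σ ≤ RingHom.ker τ := fun r hr => by
    rw [RingHom.mem_ker] at hr ⊢; simp [τ, hr]
  have hKR : LCI.IsKoszulRegularIdeal (RingHom.ker τ) := by
    obtain ⟨-, N, γ, hγ, hk⟩ := hAC
    let e : MvPolynomial (Fin m ⊕ Fin n) A ≃ₐ[A] R := MvPolynomial.sumAlgEquiv A (Fin m) (Fin n)
    let τ' : MvPolynomial (Fin m ⊕ Fin n) A →ₐ[A] C :=
      { τ.comp e.toRingEquiv.toRingHom with
        commutes' := fun a => by
          show φ (σ (e (algebraMap A _ a))) = algebraMap A C a
          rw [e.commutes, show algebraMap A R a = MvPolynomial.C (algebraMap A P a) from rfl]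
          erw [MvPolynomial.map_C]
          rw [show α.toRingHom (algebraMap A P a) = algebraMap A B a from α.commutes a,
            show φ (MvPolynomial.C (algebraMap A B a)) = algebraMap B C (algebraMap A B a) from
              RingHom.congr_fun hφC _, ← IsScalarTower.algebraMap_apply] }
    have h1 := CI2.isKR_ker_of_isKR_ker γ hγ τ' (hτ.comp e.surjective) hk
    exact (CI2.isKR_ker_comp_equiv τ e.toRingEquiv).1 h1
  letI : Algebra Bz C := φ.toAlgebra
  haveI : IsNoetherianRing B := Algebra.FiniteType.isNoetherianRing A B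
  obtain ⟨d, hd⟩ := (PCMor4.isPerfectModule_iff.1 ((PCMor4.pfh_iff_perfectModule _ φ hφs hφC).1 hf)).2
  have key := fun (𝔮 : Ideal R) [𝔮.IsPrime] (hle : RingHom.ker τ ≤ 𝔮) =>
    local_key (Bz := Bz) (C := C) σ hσ hφs hd hKR 𝔮 hle
  refine ⟨⟨RingHom.finiteType_algebraMap.1 (PCMor4.finiteType_of_pch hf.1), m,
    { φ with commutes' := fun b => RingHom.congr_fun hφC b }, hφs, ?_⟩, fun Q _ => ?_⟩
  · show LCI.IsKoszulRegularIdeal (RingHom.ker φ)
    refine isKR_of_forall_atPrime (R := Bz) _ fun q hq => ?_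
    let 𝔮 : Ideal R := q.asIdeal.comap σ
    haveI : 𝔮.IsPrime := inferInstance
    have hle : RingHom.ker τ ≤ 𝔮 := fun r hr => hq (by rw [RingHom.mem_ker] at hr ⊢; exact hr)
    obtain ⟨-, rs, hrs, hreg⟩ := key 𝔮 hle
    exact quot_key σ hσ φ q.asIdeal rs hrs hreg
  · let 𝔮 : Ideal R := Q.comap τ
    haveI : 𝔮.IsPrime := inferInstance
    have hle : RingHom.ker τ ≤ 𝔮 := fun r hr => by
      show τ r ∈ Q
      rw [RingHom.mem_ker.1 hr]; exact Q.zero_mem
    obtain ⟨⟨rs, hrs, hreg⟩, -⟩ := key 𝔮 hle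
    let q₀ : PrimeSpectrum P := ⟨𝔮.comap MvPolynomial.C, inferInstance⟩
    haveI : 𝔮.LiesOver q₀.asIdeal := ⟨rfl⟩
    let L₀ := Localization.AtPrime q₀.asIdeal
    let L := Localization.AtPrime 𝔮
    letI := Localization.AtPrime.algebraOfLiesOver q₀.asIdeal 𝔮
    haveI : IsLocalHom (algebraMap L₀ L) := by
      rw [RingHom.algebraMap_toAlgebra]
      exact Localization.isLocalHom_localRingHom q₀.asIdeal 𝔮 (algebraMap P R) Ideal.LiesOver.over
    haveI : Module.Flat P L :=
      haveI : Module.Flat R L := IsLocalization.flat L 𝔮.primeCompl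
      Module.Flat.trans P R L
    haveI : Module.Flat L₀ L := (Module.flat_iff_of_isLocalization L₀ q₀.asIdeal.primeCompl L).2 inferInstance
    haveI : Module.FaithfullyFlat L₀ L := Module.FaithfullyFlat.of_flat_of_isLocalHom (A := L₀) (B := L)
    let I₀ := RingHom.ker α.toRingHom
    have hI₀ : I₀ ≤ q₀.asIdeal := fun p hp => by
      show MvPolynomial.C p ∈ 𝔮
      refine hle (hIJ ?_)
      rw [hσk]; exact Ideal.mem_map_of_mem _ hp
    obtain ⟨k, hk, hk'⟩ := CI2.exists_minGen (IsNoetherian.noetherian I₀) q₀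
    have hne : I₀.map (algebraMap P L₀) ≠ ⊤ := fun he => by
      have h1 : I₀.map (algebraMap P L₀) ≤ IsLocalRing.maximalIdeal L₀ := by
        rw [← Localization.AtPrime.map_eq_maximalIdeal]; exact Ideal.map_mono hI₀
      rw [he] at h1
      exact (IsLocalRing.maximalIdeal.isMaximal L₀).ne_top (top_le_iff.1 h1)
    have hJ : (I₀.map (algebraMap P L₀)).map (algebraMap L₀ L) = Ideal.ofList rs := by
      rw [hrs, Ideal.map_map, ← IsScalarTower.algebraMap_eq P L₀ L, hσk, Ideal.map_map]
      rfl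
    have hex := (CI2.ff_key hk' (fun k' hk'' => hk ▸ Nat.sInf_le ⟨k', rfl, hk''⟩) hne
      (ex_of_isWeaklyRegular rs L hreg.toIsWeaklyRegular) hJ).2
    obtain ⟨g, hg, k₁, hk₁, hspan₁⟩ := exists_away_generators q₀ hI₀ hex hk'.symm
    refine ⟨α g, fun hm => hg ?_, ?_⟩
    · show φ (σ (MvPolynomial.C g)) ∈ Q
      rw [show σ (MvPolynomial.C g) = MvPolynomial.C (α g) from MvPolynomial.map_C _ g,
        show φ (MvPolynomial.C (α g)) = algebraMap B C (α g) from RingHom.congr_fun hφC _]
      exact hm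
    · let αg : Localization.Away g →+* Localization.Away (α.toRingHom g) :=
        IsLocalization.Away.map (Localization.Away g) (Localization.Away (α.toRingHom g)) α.toRingHom g
      have hmap : (Submonoid.powers g).map α.toRingHom = Submonoid.powers (α.toRingHom g) := Submonoid.map_powers _ g
      haveI : IsLocalization ((Submonoid.powers g).map α.toRingHom) (Localization.Away (α.toRingHom g)) := by
        rw [hmap]; infer_instance
      have hks : Function.Surjective αg := IsLocalization.map_surjective_of_surjective (M := Submonoid.powers g)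
        (g := α.toRingHom) (S := Localization.Away g) (Q := Localization.Away (α.toRingHom g)) hα
      have hkk : RingHom.ker αg = Ideal.ofList k₁ :=
        (IsLocalization.ker_map (S := Localization.Away g) (Localization.Away (α.toRingHom g)) α.toRingHom hmap).trans hspan₁
      obtain ⟨hps, -, hpC⟩ := CI2.polyAway_spec g
      have hKR2 : LCI.IsKoszulRegularIdeal (RingHom.ker (αg.comp (CI2.polyAway g))) := by
        rw [← RingHom.comap_ker, hkk]
        exact CI2.isKR_comap_of_surjective _ hps (isKR_away_sum (A := A) g) (isKR_ofList hk₁)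
      let e : MvPolynomial (Fin (n + 1)) A ≃ₐ[A] Polynomial P := MvPolynomial.finSuccEquiv A n
      let γ : MvPolynomial (Fin (n + 1)) A →ₐ[A] Localization.Away (α g) :=
        { (αg.comp (CI2.polyAway g)).comp e.toRingEquiv.toRingHom with
          commutes' := fun a => by
            show αg (CI2.polyAway g (e (algebraMap A _ a))) = algebraMap A (Localization.Away (α g)) a
            rw [e.commutes, show algebraMap A (Polynomial P) a = Polynomial.C (algebraMap A P a) from rfl, hpC,
              show αg (algebraMap P (Localization.Away g) (algebraMap A P a)) =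
                algebraMap B (Localization.Away (α g)) (α (algebraMap A P a)) from IsLocalization.map_eq _ _,
              α.commutes, ← IsScalarTower.algebraMap_apply] }
      refine ⟨?_, n + 1, γ, (hks.comp hps).comp e.surjective, (CI2.isKR_ker_comp_equiv _ e.toRingEquiv).2 hKR2⟩
      exact Algebra.FiniteType.of_surjective γ ((hks.comp hps).comp e.surjective)

end Groth.Agent.PerfLCI4
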