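import Groth.Agent.Lib.PerfLCI4.Ring
import Groth.Agent.Lib.KoszulFibre4.Chart
import Groth.Agent.Lib.CI2.KoszulFlat
import Mathlib

/-!
# Perfect morphisms with lci composite
-/

set_option autoImplicit false
set_option linter.style.haveILetI false
universe u

set_option backward.isDefEq.respectTransparency.types false

attribute [local instance] HasDerivedCategory.standard

open AlgebraicGeometry CategoryTheory

namespace Groth.Agent.PerfLCI4

theorem koszulAt_both {X Y S : Scheme.{u}} (f : X ⟶ Y) (g : Y ⟶ S) [IsLocallyNoetherian S] [LocallyOfFiniteType g]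
    (hf : PCMor4.pfMor f) (h : ∀ x : X, Synt.IsKoszulAt (f ≫ g) x) (x : X) :
    Synt.IsKoszulAt f x ∧ Synt.IsKoszulAt g (f x) := by
  rw [PCMor4.pfMor, affineLocally_iff_forall_isAffineOpen] at hf
  obtain ⟨W, hW, hxW, -⟩ := exists_isAffineOpen_mem_and_subset (X := S) (x := g (f x)) (U := ⊤) trivial
  obtain ⟨V, hV, hxV, hVW⟩ := exists_isAffineOpen_mem_and_subset (X := Y) (x := f x) (U := g ⁻¹ᵁ W) hxW
  obtain ⟨U, hU, hxU, hUV⟩ := exists_isAffineOpen_mem_and_subset (X := X) (x := x) (U := f ⁻¹ᵁ V) hxV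
  haveI : IsNoetherianRing Γ(S, W) := IsLocallyNoetherian.component_noetherian ⟨W, hW⟩
  letI : Algebra Γ(S, W) Γ(Y, V) := (g.appLE W V hVW).hom.toAlgebra
  haveI : Algebra.FiniteType Γ(S, W) Γ(Y, V) := g.finiteType_appLE hW hV hVW
  letI : Algebra Γ(Y, V) Γ(X, U) := (f.appLE V U hUV).hom.toAlgebra
  have hUW : U ≤ (f ≫ g) ⁻¹ᵁ W := fun z hz => hVW (hUV hz)
  letI : Algebra Γ(S, W) Γ(X, U) := ((f ≫ g).appLE W U hUW).hom.toAlgebra
  haveI : IsScalarTower Γ(S, W) Γ(Y, V) Γ(X, U) := IsScalarTower.of_algebraMap_eq fun a => by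
    show (f ≫ g).appLE W U hUW a = (g.appLE W V hVW ≫ f.appLE V U hUV) a
    rw [Scheme.Hom.appLE_comp_appLE]
  obtain ⟨h1, h2⟩ := perfect_over_lci (A := Γ(S, W)) (B := Γ(Y, V)) (C := Γ(X, U)) (hf hV hU hUV)
    (CI2.isLCI_appLE_of_isKoszulAt (f ≫ g) h hU hW hUW)
  refine ⟨CI2.isKoszulAt_of_isLCI f hU hV hUV hxU h1, ?_⟩
  obtain ⟨b, hb, hbl⟩ := h2 (hU.primeIdealOf ⟨x, hxU⟩).asIdeal
  have hxb : f x ∈ Y.basicOpen b := by
    have hpr : (hU.primeIdealOf ⟨x, hxU⟩).asIdeal.comap (f.appLE V U hUV).hom = (hV.primeIdealOf ⟨f x, hxV⟩).asIdeal :=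
      congr($(IsAffineOpen.comap_primeIdealOf_appLE V hV U hU hUV hxU).1)
    have hb' : b ∉ (hV.primeIdealOf ⟨f x, hxV⟩).asIdeal := hpr ▸ hb
    have h4 : hV.primeIdealOf ⟨f x, hxV⟩ ∈ hV.fromSpec ⁻¹ᵁ Y.basicOpen b := by
      rw [hV.fromSpec_preimage_basicOpen]; exact hb'
    have h5 : hV.fromSpec (hV.primeIdealOf ⟨f x, hxV⟩) ∈ Y.basicOpen b := h4
    rwa [hV.fromSpec_primeIdealOf] at h5
  have hle : Y.basicOpen b ≤ g ⁻¹ᵁ W := (Y.basicOpen_le b).trans hVW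
  letI : Algebra Γ(S, W) Γ(Y, Y.basicOpen b) := (g.appLE W (Y.basicOpen b) hle).hom.toAlgebra
  haveI := hV.isLocalization_basicOpen b
  haveI : IsScalarTower Γ(S, W) Γ(Y, V) Γ(Y, Y.basicOpen b) := IsScalarTower.of_algebraMap_eq fun a => by
    show g.appLE W (Y.basicOpen b) hle a = (g.appLE W V hVW ≫ Y.presheaf.map (homOfLE (Y.basicOpen_le b)).op) a
    rw [Scheme.Hom.appLE_map]
  let e : Localization.Away b ≃ₐ[Γ(S, W)] Γ(Y, Y.basicOpen b) :=
    (IsLocalization.algEquiv (Submonoid.powers b) (Localization.Away b) Γ(Y, Y.basicOpen b)).restrictScalars _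
  exact CI2.isKoszulAt_of_isLCI g (hV.basicOpen b) hW hle hxb (KoszulFibre4.isLCI_congr e hbl)

end Groth.Agent.PerfLCI4
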